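import Cfsg.Agent.Lib.Helper32.KSLocal

/-! Primitive groups with a suborbit of length three (Sims, Wong): definitions, and the part of
helper32's `Par` API which needs neither characteristic 2 nor `Ω₁Z(T)` non-central. -/

set_option autoImplicit false
open Cfsg Subgroup Cfsg.Agent.Lib.Helper47 Cfsg.Agent.Lib.Helper32.KSLocal

namespace Cfsg.Agent.Lib.Helper55.Sub3

variable {G : Type*} [Group G]

/-- the normal core of `T` in `P`. -/
def kk (P T : Subgroup G) : Subgroup G := ((T.subgroupOf P).normalCore).map P.subtype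

/-- two conjugate subgroups `P1`, `P2 = g P1 g⁻¹` with a common subgroup `T` of index three
containing no non-trivial subgroup normalised by both. -/
structure Hyp (P1 P2 T : Subgroup G) (g : G) : Prop where
  hP2 : P2 = cj g P1
  hT1 : T ≤ P1
  hT2 : T ≤ P2
  h31 : T.relIndex P1 = 3
  h32 : T.relIndex P2 = 3
  hcore : ∀ N : Subgroup G, N ≤ T → P1 ≤ normalizer (N : Set G) → P2 ≤ normalizer (N : Set G) →
    N = ⊥

theorem Hyp.symm {P1 P2 T : Subgroup G} {g : G} (h : Hyp P1 P2 T g) : Hyp P2 P1 T g⁻¹ :=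
  ⟨by rw [h.hP2, cj_inv_cj], h.hT2, h.hT1, h.h32, h.h31, fun N hN a b => h.hcore N hN b a⟩

/-- `T` a 2-group of index three in `P`, `|P : O₂(P)| = 6`. -/
structure Par0 (P T : Subgroup G) : Prop where
  hTP : T ≤ P
  hT2 : IsPGroup 2 T
  h3 : T.relIndex P = 3
  h6 : (pCoreOf 2 P).relIndex P = 6

theorem Par0.toPar {P T : Subgroup G} (h : Par0 P T)
    (hC : P ⊓ centralizer (pCoreOf 2 P : Set G) ≤ pCoreOf 2 P)
    (hZ : ¬ P ≤ centralizer (omegaCenterOf T : Set G)) : Par P T :=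
  ⟨h.hTP, h.hT2, h.h3, h.h6, hC, hZ⟩

namespace Par0

variable {P T : Subgroup G} [Finite ↥P]

theorem Q_le_T (h : Par0 P T) : pCoreOf 2 P ≤ T := by
  set Q := pCoreOf 2 P with hQ
  have hn : T ≤ normalizer (Q : Set G) := h.hTP.trans (le_normalizer_pCoreOf P)
  have hp : IsPGroup 2 (T ⊔ Q : Subgroup G) :=
    IsPGroup.to_sup_of_normal_right' h.hT2 (pCoreOf_isPGroup P) hn
  have hle : T ⊔ Q ≤ P := sup_le h.hTP (pCoreOf_le P)
  have hm := relIndex_mul_relIndex T (T ⊔ Q) P le_sup_left hle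
  rw [h.h3] at hm
  have h1 : T.relIndex (T ⊔ Q) ∣ 3 := Dvd.intro _ hm
  obtain ⟨k, hk⟩ : ∃ k, T.relIndex (T ⊔ Q) = 2 ^ k := by
    have : Finite ↥(T ⊔ Q) := Finite.of_injective _ (inclusion_injective hle)
    exact IsPGroup.index hp (T.subgroupOf (T ⊔ Q))
  have h2 : T.relIndex (T ⊔ Q) = 1 := by
    rcases (Nat.dvd_prime Nat.prime_three).1 h1 with h3 | h3
    · exact h3
    · exfalso
      rw [hk] at h3
      rcases k with _ | k
      · simp at h3
      · have : 2 ∣ 3 := by rw [← h3, pow_succ]; exact Dvd.intro_left _ rfl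
        omega
  exact le_sup_right.trans (relIndex_eq_one.1 h2)

theorem relIndex_Q_T (h : Par0 P T) : (pCoreOf 2 P).relIndex T = 2 := by
  have hm := relIndex_mul_relIndex (pCoreOf 2 P) T P h.Q_le_T h.hTP
  rw [h.h3, h.h6] at hm
  omega

theorem Q_lt_T (h : Par0 P T) : pCoreOf 2 P < T := by
  refine lt_of_le_of_ne h.Q_le_T ?_
  intro he
  have := h.relIndex_Q_T
  rw [he, relIndex_self] at this
  omega

theorem eq_P_of_lt (h : Par0 P T) {H : Subgroup G} (h1 : T < H) (h2 : H ≤ P) : H = P :=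
  eq_of_lt_of_le_prime Nat.prime_three h1 h2 h.h3

theorem eq_T_of_lt (h : Par0 P T) {H : Subgroup G} (h1 : pCoreOf 2 P < H) (h2 : H ≤ T) : H = T :=
  eq_of_lt_of_le_prime Nat.prime_two h1 h2 h.relIndex_Q_T

theorem sup_zpowers_eq_P (h : Par0 P T) {x : G} (hx : x ∈ P) (hxT : x ∉ T) : T ⊔ zpowers x = P := by
  apply h.eq_P_of_lt
  · exact lt_of_le_of_ne le_sup_left (fun he => hxT (he ▸ mem_sup_right (mem_zpowers x)))
  · exact sup_le h.hTP (by rw [zpowers_le]; exact hx)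

theorem sup_zpowers_eq_T (h : Par0 P T) {x : G} (hx : x ∈ T) (hxQ : x ∉ pCoreOf 2 P) :
    pCoreOf 2 P ⊔ zpowers x = T := by
  apply h.eq_T_of_lt
  · exact lt_of_le_of_ne le_sup_left (fun he => hxQ (he ▸ mem_sup_right (mem_zpowers x)))
  · exact sup_le h.Q_le_T (by rw [zpowers_le]; exact hx)

theorem normalizer_inf (h : Par0 P T) : P ⊓ normalizer (T : Set G) = T := by
  by_contra hne
  have h1 : T < P ⊓ normalizer (T : Set G) :=
    lt_of_le_of_ne (le_inf h.hTP le_normalizer) (fun he => hne he.symm)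
  have h2 := h.eq_P_of_lt h1 inf_le_left
  have h3 : P ≤ normalizer (T : Set G) := by rw [← h2]; exact inf_le_right
  have h4 : T ≤ pCoreOf 2 P := le_pCoreOf h.hTP h3 h.hT2
  exact absurd h4 (not_le_of_gt h.Q_lt_T)

theorem cj_Q (h : Par0 P T) {p : G} (hp : p ∈ P) : cj p (pCoreOf 2 P) = pCoreOf 2 P :=
  cj_eq_self_of_mem_normalizer (le_normalizer_pCoreOf P hp)

theorem inf_cj (h : Par0 P T) {p : G} (hp : p ∈ P) (hpT : p ∉ T) : T ⊓ cj p T = pCoreOf 2 P := by
  have h1 : pCoreOf 2 P ≤ T ⊓ cj p T := by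
    apply le_inf h.Q_le_T
    rw [← h.cj_Q hp]
    exact cj_mono h.Q_le_T
  by_contra hne
  have h2 : pCoreOf 2 P < T ⊓ cj p T := lt_of_le_of_ne h1 (fun he => hne he.symm)
  have h3 := h.eq_T_of_lt h2 inf_le_left
  have h4 : T ≤ cj p T := by
    have h40 : T ⊓ cj p T ≤ cj p T := inf_le_right
    rwa [h3] at h40
  have : Finite ↥T := Finite.of_injective _ (inclusion_injective h.hTP)
  have h5 : cj p T = T := cj_eq_of_ge' h4
  have h6 : p ∈ P ⊓ normalizer (T : Set G) := ⟨hp, mem_normalizer_of_cj_eq h5⟩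
  rw [h.normalizer_inf] at h6
  exact hpT h6

/-- index 2: the product of two elements of `T \ Q` lies in `Q`. -/
theorem i2 (h : Par0 P T) {x y : G} (hx : x ∈ T) (hy : y ∈ T) (hxQ : x ∉ pCoreOf 2 P)
    (hyQ : y ∉ pCoreOf 2 P) : x * y ∈ pCoreOf 2 P := by
  have h2 : ((pCoreOf 2 P).subgroupOf T).index = 2 := h.relIndex_Q_T
  have := (mul_mem_iff_of_index_two h2 (a := (⟨x, hx⟩ : T)) (b := ⟨y, hy⟩)).2
    (by simp only [mem_subgroupOf]; tauto)
  simpa [mem_subgroupOf] using this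


end Par0

end Cfsg.Agent.Lib.Helper55.Sub3
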